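import Cfsg.Agent.Lib.KBlock.Split
import Cfsg.Agent.Lib.SolvClass.Irreducible
import Cfsg.Agent.Lib.SolvClass.Main

/-!
`k(V ⋊ Y) ≤ 3 ^ (dim V - 1) * |V|` for solvable completely reducible `Y`.
-/

set_option autoImplicit false
set_option linter.unusedSectionVars false
set_option linter.style.haveILetI false

namespace CfsgLib.KBlock

open Cfsg CfsgLib.SolvClass
open scoped commutatorElement

universe u v w

/-- The bound in dimension `d`. -/
def KBound.{u', v', w'} (d : ℕ) : Prop :=
  ∀ (k : Type w') [Field k] [Finite k] (V : Type v') [AddCommGroup V] [Module k V] [FiniteDimensional k V]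
    (Y : Type u') [Group Y] [Finite Y] [Group.IsSolvable Y] (ρ : Y →* (V ≃ₗ[k] V)),
    Function.Injective ρ → CR ρ → Module.finrank k V = d → 1 ≤ d → kV ρ ≤ 3 ^ (d - 1) * Nat.card V

variable {k : Type w} [Field k] [Finite k]

/-- A sum of invariant pieces. -/
theorem multi {D : ℕ} (IH : ∀ m < D, KBound.{u, v, w} m) :
    ∀ (t : ℕ) (V : Type v) [AddCommGroup V] [Module k V] [FiniteDimensional k V] (Y : Type u) [Group Y] [Finite Y]
      [Group.IsSolvable Y] (ρ : Y →* (V ≃ₗ[k] V)) (ι : Type v) [Fintype ι] (π : ι → Module.End k V),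
      Function.Injective ρ → CR ρ → (∀ i, π i * π i = π i) → (∀ i j, i ≠ j → π i * π j = 0) →
      ∑ i, π i = 1 → (∀ i, π i ≠ 0) → (∀ g i x, π i (ρ g x) = ρ g (π i x)) → Fintype.card ι = t → 1 ≤ t →
      Module.finrank k V ≤ D → (t = 1 → Module.finrank k V < D) →
      kV ρ ≤ 3 ^ (Module.finrank k V - t) * Nat.card V ∧ t ≤ Module.finrank k V := by
  intro t
  induction t using Nat.strong_induction_on with
  | _ t ih =>
    intro V _ _ _ Y _ _ _ ρ ι _ π hρ hcr hidem horth hsum hne hcomm hcard ht hD h1
    classical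
    haveI : Finite V := Module.finite_of_finite k
    obtain ⟨e⟩ : Nonempty ι := Fintype.card_pos_iff.mp (by omega)
    haveI : Nontrivial V := by
      by_contra h
      rw [not_nontrivial_iff_subsingleton] at h
      exact hne e (LinearMap.ext fun x => Subsingleton.elim _ _)
    have hdV : 1 ≤ Module.finrank k V := Module.finrank_pos
    by_cases ht1 : t = 1
    · subst ht1
      exact ⟨IH _ (h1 rfl) k V Y ρ hρ hcr rfl hdV, hdV⟩
    let U := LinearMap.range (π e)
    let U' := LinearMap.ker (π e)
    have hc : IsCompl U U' := by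
      refine ⟨?_, ?_⟩
      · rw [disjoint_iff, Submodule.eq_bot_iff]
        rintro x ⟨⟨y, rfl⟩, hx⟩
        rw [← show π e (π e y) = π e y from LinearMap.congr_fun (hidem e) y]
        exact hx
      · rw [codisjoint_iff, Submodule.eq_top_iff']
        intro x
        refine Submodule.mem_sup.mpr ⟨π e x, ⟨x, rfl⟩, x - π e x, ?_, add_sub_cancel _ _⟩
        show π e (x - π e x) = 0
        rw [map_sub, show π e (π e x) = π e x from LinearMap.congr_fun (hidem e) x, sub_self]
    have hU : ∀ g, ∀ x ∈ U, ρ g x ∈ U := by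
      rintro g _ ⟨y, rfl⟩
      exact ⟨ρ g y, hcomm g e y⟩
    have hU' : ∀ g, ∀ x ∈ U', ρ g x ∈ U' := fun g x hx => by
      show π e (ρ g x) = 0
      rw [hcomm, show π e x = 0 from hx, map_zero]
    have hsplit := kV_split ρ U U' hU hU' hc
    have hfin := Submodule.finrank_add_eq_of_isCompl hc
    have hcardUV : Nat.card U * Nat.card U' = Nat.card V := by
      rw [← Nat.card_prod]
      exact Nat.card_congr (Submodule.prodEquivOfIsCompl U U' hc).toEquiv
    set dU := Module.finrank k U with hdU
    set dU' := Module.finrank k U' with hdU'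
    -- the rest
    let ι' := {i : ι // i ≠ e}
    have hmap : ∀ (i : ι') (x : V), x ∈ U' → π i x ∈ U' := fun i x _ => by
      show π e (π i x) = 0
      exact LinearMap.congr_fun (horth e i (Ne.symm i.2)) x
    let π' : ι' → Module.End k U' := fun i => (π i).restrict (hmap i)
    have hπ' : ∀ (i : ι') (x : U'), (π' i x : V) = π i x := fun i x => rfl
    have hπ'ne : ∀ i, π' i ≠ 0 := fun i h => by
      obtain ⟨x, hx⟩ : ∃ x, π i x ≠ 0 := by
        by_contra hall
        push Not at hall
        exact hne i (LinearMap.ext hall)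
      have hxU : π i x ∈ U' := LinearMap.congr_fun (horth e i (Ne.symm i.2)) x
      have := congrArg Subtype.val (LinearMap.congr_fun h ⟨_, hxU⟩)
      rw [hπ', show π i (π i x) = π i x from LinearMap.congr_fun (hidem i) x] at this
      exact hx this
    have hcard' : Fintype.card ι' = t - 1 := by
      simp only [ι', ne_eq]
      rw [Fintype.card_subtype_compl, Fintype.card_subtype_eq, hcard]
    haveI : Nonempty ι' := Fintype.card_pos_iff.mp (by omega)
    have hdU0 : 1 ≤ dU := by
      refine Nat.one_le_iff_ne_zero.mpr fun h => hne e (LinearMap.range_eq_bot.mp (Submodule.finrank_eq_zero.mp h))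
    have hK : ∀ g : (sub ρ U' hU').ker, (∀ x : U, sub ρ U hU g x = x) → g = 1 := by
      intro g hg
      refine Subtype.ext (hρ (LinearEquiv.ext fun x => ?_))
      rw [Subgroup.coe_one, map_one]
      obtain ⟨a, ha, b, hb, rfl⟩ := Submodule.mem_sup.mp (hc.sup_eq_top ▸ Submodule.mem_top : x ∈ U ⊔ U')
      rw [map_add, show ρ g a = a from congrArg Subtype.val (hg ⟨a, ha⟩),
        show ρ g b = b from congrArg Subtype.val (LinearEquiv.congr_fun (MonoidHom.mem_ker.mp g.2) ⟨b, hb⟩)]
      rfl
    have hrec := ih (t - 1) (by omega) U' (Y ⧸ (sub ρ U' hU').ker) (QuotientGroup.kerLift (sub ρ U' hU')) ι' π'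
      (QuotientGroup.kerLift_injective _) (cr_kerLift (cr_sub hcr U' hU'))
      (fun i => LinearMap.ext fun x => Subtype.ext (LinearMap.congr_fun (hidem i) x))
      (fun i j hij => LinearMap.ext fun x => Subtype.ext (LinearMap.congr_fun (horth i j fun h => hij (Subtype.ext h)) x))
      (LinearMap.ext fun x => Subtype.ext (by
        rw [LinearMap.sum_apply, Submodule.coe_sum]
        simp only [hπ']
        have h := LinearMap.congr_fun hsum x
        rw [LinearMap.sum_apply, ← Finset.add_sum_erase Finset.univ _ (Finset.mem_univ e),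
          show π e (x : V) = 0 from x.2, zero_add] at h
        rw [Module.End.one_apply] at h ⊢
        refine Eq.trans ?_ h
        exact (Finset.sum_subtype (Finset.univ.erase e) (fun i => by simp) fun i => π i (x : V)).symm))
      hπ'ne (fun g i x => QuotientGroup.induction_on g fun g => Subtype.ext (hcomm g i x)) hcard' (by omega)
      (by omega) (fun h => by omega)
    have hUb : kV ((sub ρ U hU).comp (sub ρ U' hU').ker.subtype) ≤ 3 ^ (dU - 1) * Nat.card U := by
      refine IH dU (by omega) k U _ _ ((injective_iff_map_eq_one _).mpr fun g hg => hK g fun x =>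
        LinearEquiv.congr_fun hg x) (cr_normal (cr_sub hcr U hU) _) rfl hdU0
    refine ⟨hsplit.trans ((Nat.mul_le_mul hUb hrec.1).trans (le_of_eq ?_)), by omega⟩
    rw [← hcardUV, mul_mul_mul_comm, ← pow_add]
    congr 2
    have := hrec.2
    omega

/-- One step of the induction. -/
theorem step {d : ℕ} (IH : ∀ m < d, KBound.{u, v, w} m) (IH' : ∀ m < d, KBound.{u, v, v} m) :
    KBound.{u, v, w} d := by
  intro k _ _ V _ _ _ Y _ _ _ ρ hρ hcr hd hd1
  classical
  subst hd
  haveI : Nontrivial V := Module.nontrivial_of_finrank_pos (R := k) (by omega)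
  haveI : Finite V := Module.finite_of_finite k
  let p := ringChar k
  haveI : Fact p.Prime := ⟨CharP.prime_ringChar k⟩
  have hpV : ∀ x : V, p • x = 0 := fun x => by
    rw [← Nat.cast_smul_eq_nsmul k, CharP.cast_eq_zero, zero_smul]
  have hnop : ∀ P : Subgroup Y, P.Normal → IsPGroup p P → P = ⊥ := fun P hn hP =>
    haveI := hn; pgroup_eq_bot hρ hcr hpV P hP
  -- nilpotent normal subgroups have order prime to `p`
  have hcop : ∀ N : Subgroup Y, N.Normal → Group.IsNilpotent N → ¬ p ∣ Nat.card N := by
    intro N hNn hnil hdvd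
    haveI := hNn
    obtain ⟨S⟩ : Nonempty (Sylow p N) := inferInstance
    haveI : (S : Subgroup N).Normal := by have := hnil; infer_instance
    haveI := Sylow.characteristic_of_normal S this
    have h := hnop ((S : Subgroup N).map N.subtype) inferInstance (S.2.map _)
    rw [Subgroup.map_eq_bot_iff_of_injective _ N.subtype_injective] at h
    exact S.ne_bot_of_dvd_card hdvd h
  by_cases hns : ∀ B : Subgroup Y, B.Normal → (∀ a ∈ B, ∀ b ∈ B, a * b = b * a) → B ≤ scal ρ
  · have hab : ∀ B : Subgroup Y, B.Characteristic → (∀ a ∈ B, ∀ b ∈ B, a * b = b * a) → B ≤ scal ρ :=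
      fun B hB hab => hns B (by haveI := hB; infer_instance) hab
    obtain ⟨A, instA, hfin, ω, σ, hker, hω, hsize, -, hiso⟩ := exists_pairing ρ hρ hab
    obtain ⟨m, hm, hb⟩ := pairing_bound (irreducibleBound (Module.finrank k V)) (Nat.card A) A ω (Y ⧸ σ.ker)
      (QuotientGroup.kerLift σ) rfl hsize (QuotientGroup.kerLift_injective σ)
      (fun q => QuotientGroup.induction_on q hω) (fun U hU => hiso hns U fun c u hu => hU (c : Y ⧸ σ.ker) u hu)
    have hmd : m ≤ Module.finrank k V := Nat.mul_self_le_mul_self_iff.mp (hm ▸ hsize)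
    let F := fittingSubgroup Y
    have hquot : Nat.card (ConjClasses (Y ⧸ F)) ≤ 3 ^ (Module.finrank k V - 1) := by
      have h := (hb.of_injective (QuotientGroup.quotientMulEquivOfEq hker.symm).toMonoidHom
        (MulEquiv.injective _)) ⊤
      refine le_trans ?_ (h.trans (Nat.pow_le_pow_right (by norm_num) (Nat.sub_le_sub_right hmd 1)))
      exact card_conjClasses_congr_le (Subgroup.topEquiv (G := Y ⧸ F)).toMonoidHom (MulEquiv.surjective _)
    obtain ⟨v, hv⟩ := exists_ne (0 : V)
    have hF : kV (ρ.comp F.subtype) ≤ Nat.card V := by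
      refine kV_le_card_of_stab (ρ.comp F.subtype) (hρ.comp F.subtype_injective) hpV
        (hcop F inferInstance CfsgLib.isNilpotent_fittingSubgroup) v fun a b ha hb => Subtype.ext ?_
      obtain ⟨z, hz⟩ := fitting_commutator_scal ρ hρ hab _ a.2 _ b.2
      have hz1 : (z : k) = 1 := by
        have hfix : ρ ⁅(a : Y), (b : Y)⁆ v = v := by
          have ha' : ρ (a : Y)⁻¹ v = v := by
            conv_lhs => rw [← ha]
            show ρ (a : Y)⁻¹ (ρ (a : Y) v) = v
            rw [← LinearEquiv.mul_apply, ← map_mul, inv_mul_cancel, map_one]; rfl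
          have hb' : ρ (b : Y)⁻¹ v = v := by
            conv_lhs => rw [← hb]
            show ρ (b : Y)⁻¹ (ρ (b : Y) v) = v
            rw [← LinearEquiv.mul_apply, ← map_mul, inv_mul_cancel, map_one]; rfl
          simp only [commutatorElement_def, map_mul, LinearEquiv.mul_apply]
          rw [hb', ha', show ρ (b : Y) v = v from hb, show ρ (a : Y) v = v from ha]
        rw [hz v] at hfix
        by_contra hne
        exact hv ((smul_eq_zero.mp (by rw [sub_smul, one_smul, hfix, sub_self] : ((z : k) - 1) • v = 0)).resolve_left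
          (sub_ne_zero.mpr hne))
      refine commutatorElement_eq_one_iff_mul_comm.mp (hρ (LinearEquiv.ext fun x => ?_))
      rw [hz x, hz1, one_smul, map_one]; rfl
    refine (kV_le_of_normal ρ F).trans ?_
    rw [mul_comm (3 ^ _)]
    exact Nat.mul_le_mul hF hquot
  push Not at hns
  obtain ⟨A₀, hA₀n, hA₀c, hA₀s⟩ := hns
  haveI := hA₀n
  have hco : (Nat.card A₀ : k) ≠ 0 := by
    rw [Ne, ringChar.spec]
    refine hcop A₀ hA₀n ?_
    letI : CommGroup A₀ :=
      { (inferInstance : Group A₀) with mul_comm := fun a b => Subtype.ext (hA₀c a a.2 b b.2) }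
    exact CommGroup.isNilpotent (G := A₀)
  rcases exists_blocks ρ hA₀c hco with hfield | ⟨D, hD2, -⟩
  · -- a field
    let K := alg ρ A₀
    have hfK : IsField K :=
      { exists_pair_ne := ⟨0, 1, fun h => by
          obtain ⟨x, hx⟩ := exists_ne (0 : V)
          exact hx (LinearMap.congr_fun (congrArg Subtype.val h) x).symm⟩
        mul_comm := fun x y => Subtype.ext (alg_comm ρ hA₀c x.2 y.2)
        mul_inv_cancel := fun {x} hx => by
          obtain ⟨y, hy, hxy⟩ := hfield x x.2 fun h => hx (Subtype.ext h)
          exact ⟨⟨y, hy⟩, Subtype.ext hxy⟩ }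
    letI : Field K := hfK.toField
    haveI : Finite (Module.End k V) := Finite.of_injective _ DFunLike.coe_injective
    haveI : IsScalarTower k K V := ⟨fun _ _ _ => rfl⟩
    haveI : Module.Finite K V := Module.Finite.of_restrictScalars_finite k K V
    have hef := Module.finrank_mul_finrank k K V
    have hf1 : 1 ≤ Module.finrank K V := Module.finrank_pos
    have he2 : 2 ≤ Module.finrank k K := by
      by_contra hlt
      refine hA₀s fun a ha => ?_
      have he1 : Module.finrank k K = 1 := by
        have : 0 < Module.finrank k K := Module.finrank_pos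
        omega
      have hmem : (ρ a : V →ₗ[k] V) ∈ K := mem_alg ρ ha
      rw [Subalgebra.eq_bot_of_finrank_one he1] at hmem
      obtain ⟨c, hc⟩ := Algebra.mem_bot.mp hmem
      have hax : ∀ x, ρ a x = c • x := fun x => (LinearMap.congr_fun hc x).symm
      refine ⟨Units.mk0 c fun h0 => ?_, hax⟩
      obtain ⟨x, hx⟩ := exists_ne (0 : V)
      exact hx ((ρ a).map_eq_zero_iff.mp (by rw [hax, h0, zero_smul]))
    let ψf : Y → (K ≃ₐ[k] K) := fun g =>
      { toFun := fun z => ⟨cjEnd ρ g z, cjEnd_mem_alg ρ g z.2⟩
        invFun := fun z => ⟨cjEnd ρ g⁻¹ z, cjEnd_mem_alg ρ g⁻¹ z.2⟩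
        left_inv := fun z => Subtype.ext (by simp [cjEnd_cjEnd, cjEnd_one])
        right_inv := fun z => Subtype.ext (by simp [cjEnd_cjEnd, cjEnd_one])
        map_mul' := fun y z => Subtype.ext (cjEnd_mul ρ g _ _)
        map_add' := fun y z => Subtype.ext (by simp [cjEnd, mul_add, add_mul])
        commutes' := fun c => Subtype.ext (LinearMap.ext fun x => by
          simp [cjEnd_apply, ← LinearEquiv.mul_apply, ← map_mul]) }
    let ψ : Y →* (K ≃ₐ[k] K) := MonoidHom.mk' ψf fun g h =>
      AlgEquiv.ext fun z => Subtype.ext (cjEnd_cjEnd ρ g h z).symm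
    have hgal : Nat.card (K ≃ₐ[k] K) ≤ Module.finrank k K := le_of_eq_of_le Nat.card_eq_fintype_card AlgEquiv.card_le
    have hquot : Nat.card (ConjClasses (Y ⧸ ψ.ker)) ≤ Module.finrank k K :=
      (Nat.card_le_card_of_surjective _ ConjClasses.mk_surjective).trans
        ((Nat.card_le_card_of_injective _ (QuotientGroup.kerLift_injective ψ)).trans hgal)
    have hC : ∀ (c : ψ.ker) (z : K) (x : V), ρ c (z • x) = z • ρ c x := by
      intro c z x
      have h := congrArg (fun φ : K ≃ₐ[k] K => ((φ z : K) : Module.End k V) (ρ c x)) (MonoidHom.mem_ker.mp c.2)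
      refine Eq.trans ?_ h
      show ρ c ((z : Module.End k V) x) = cjEnd ρ c z (ρ c x)
      simp [cjEnd_apply, ← LinearEquiv.mul_apply, ← map_mul]
    let ρK : ψ.ker →* (V ≃ₗ[K] V) := MonoidHom.mk' (fun c => { (ρ c).toAddEquiv with map_smul' := hC c })
      fun c e => LinearEquiv.ext fun x => by
        show ρ (c * e : ψ.ker) x = ρ c (ρ e x)
        rw [Subgroup.coe_mul, map_mul]; rfl
    have hρK : Function.Injective ρK := fun c e h => Subtype.ext (hρ (LinearEquiv.ext fun x =>
      DFunLike.congr_fun h x))
    have hAC : A₀ ≤ ψ.ker := fun a ha => MonoidHom.mem_ker.mpr (AlgEquiv.ext fun z => Subtype.ext (by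
      show cjEnd ρ a z = (z : Module.End k V)
      refine LinearMap.ext fun x => ?_
      rw [cjEnd_apply]
      have h := LinearMap.congr_fun (alg_comm ρ hA₀c (mem_alg ρ ha) z.2) (ρ a⁻¹ x)
      simp only [Module.End.mul_apply, LinearEquiv.coe_coe] at h
      rw [h, ← LinearEquiv.mul_apply, ← map_mul, mul_inv_cancel, map_one]; rfl))
    have hcrK : CR ρK := by
      intro W hW
      obtain ⟨W', hW', hWc⟩ := cr_normal hcr ψ.ker (W.restrictScalars k) fun c x hx => hW c x hx
      have hsm : ∀ z ∈ K, ∀ x ∈ W', (z : Module.End k V) x ∈ W' := by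
        intro z hz
        induction hz using Algebra.adjoin_induction with
        | mem z hz =>
          obtain ⟨a, ha, rfl⟩ := hz
          exact fun x hx => hW' ⟨a, hAC ha⟩ x hx
        | algebraMap c => exact fun x hx => W'.smul_mem c hx
        | add z y _ _ hz hy => exact fun x hx => add_mem (hz x hx) (hy x hx)
        | mul z y _ _ hz hy => exact fun x hx => hz _ (hy x hx)
      let W'K : Submodule K V :=
        { carrier := W'
          add_mem' := fun ha hb => add_mem ha hb
          zero_mem' := zero_mem W'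
          smul_mem' := fun z x hx => hsm z z.2 x hx }
      refine ⟨W'K, hW', ?_, ?_⟩
      · rw [disjoint_iff, Submodule.eq_bot_iff]
        rintro x ⟨h1, h2⟩
        exact (Submodule.mem_bot k).mp (hWc.disjoint.le_bot ⟨h1, h2⟩)
      · rw [codisjoint_iff, Submodule.eq_top_iff']
        intro x
        obtain ⟨a, ha, b, hb, rfl⟩ := Submodule.mem_sup.mp (hWc.sup_eq_top ▸ Submodule.mem_top :
          x ∈ W.restrictScalars k ⊔ W')
        exact Submodule.mem_sup.mpr ⟨a, ha, b, hb, rfl⟩
    set e := Module.finrank k K with hedef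
    set f := Module.finrank K V with hfdef
    have hfd : f < Module.finrank k V := by
      rw [← hef]
      exact lt_mul_of_one_lt_left (by omega) (by omega)
    have hin : kV (ρ.comp ψ.ker.subtype) ≤ 3 ^ (f - 1) * Nat.card V :=
      IH' f hfd K V ψ.ker ρK hρK hcrK rfl hf1
    refine (kV_le_of_normal ρ ψ.ker).trans ((Nat.mul_le_mul hin hquot).trans ?_)
    rw [mul_right_comm]
    refine Nat.mul_le_mul_right _ ?_
    have h3 : e ≤ 3 ^ (e - 1) := by
      have := Nat.lt_pow_self (n := e - 1) (by norm_num : 1 < 3)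
      omega
    refine (Nat.mul_le_mul_left _ h3).trans ?_
    rw [← pow_add, ← hef]
    refine Nat.pow_le_pow_right (by norm_num) ?_
    obtain ⟨e', he'⟩ : ∃ e', e = e' + 1 := ⟨e - 1, by omega⟩
    obtain ⟨f', hf'⟩ : ∃ f', f = f' + 1 := ⟨f - 1, by omega⟩
    rw [he', hf', show (e' + 1) * (f' + 1) = e' * f' + e' + f' + 1 by ring]
    omega
  · -- blocks
    have hB := multi (k := k) IH D.E.card V D.permHom.ker (ρ.comp D.permHom.ker.subtype) D.E
      (fun i => (i : Module.End k V)) (hρ.comp D.permHom.ker.subtype_injective) (cr_normal hcr _)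
      (fun i => D.idem i i.2) (fun i j hij => D.orth i i.2 j j.2 fun h => hij (Subtype.ext h))
      (by rw [Finset.sum_coe_sort D.E (fun e => e)]; exact D.sum_one) (fun i => D.ne_zero i i.2)
      (fun g i x => Blocks.commute_of_stab (D.ker_le_stab i g.2) x) (Fintype.card_coe _) (by omega) le_rfl
      (fun h => by omega)
    haveI : Nonempty D.E := Finset.Nonempty.to_subtype (Finset.card_pos.mp (by omega))
    have hperm : Nat.card (ConjClasses (Y ⧸ D.permHom.ker)) ≤ 3 ^ (D.E.card - 1) := by
      have h := classBound_perm D.permHom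
      rw [Nat.card_eq_fintype_card, Fintype.card_coe] at h
      have h' := (h.of_injective (QuotientGroup.quotientKerEquivRange D.permHom).toMonoidHom
        (MulEquiv.injective _)) ⊤
      exact le_trans (card_conjClasses_congr_le (Subgroup.topEquiv (G := Y ⧸ D.permHom.ker)).toMonoidHom
        (MulEquiv.surjective _)) h'
    refine (kV_le_of_normal ρ _).trans ((Nat.mul_le_mul hB.1 hperm).trans ?_)
    rw [mul_right_comm, ← pow_add]
    refine Nat.mul_le_mul_right _ (Nat.pow_le_pow_right (by norm_num) ?_)
    have := hB.2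
    omega

/-- The bound. -/
theorem kBound (d : ℕ) : KBound.{u, v, w} d := by
  have aux : ∀ d, KBound.{u, v, v} d := fun d => by
    induction d using Nat.strong_induction_on with
    | _ d ih => exact step ih ih
  induction d using Nat.strong_induction_on with
  | _ d ih => exact step ih fun m _ => aux m

end CfsgLib.KBlock
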