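import Cfsg.Agent.Lib.CharTheory.Gallagher
import Cfsg.Agent.Lib.CharTheory.ExtCriteria

/-!
At most `k(G ⧸ N)` irreducible characters lie over an invariant character of `N`.
-/

set_option autoImplicit false
set_option linter.unusedSectionVars false
set_option linter.style.haveILetI false

namespace CfsgLib.KBlock

open Cfsg CfsgLib.CharTheory

universe u

variable {G : Type u} [Group G] [Fintype G] (N : Subgroup G) [hN : N.Normal] [Fintype N]
  {θ : N → ℂ}

/-- On a coset of `N` the characters over `θ` are proportional to one value. -/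
theorem exists_rep (hθ : IsIrrCharacter N θ) (hinv : ∀ g : G, conjNormFun N g θ = θ) (x : G) :
    ∃ r : G, x⁻¹ * r ∈ N ∧ ∀ y : G, x⁻¹ * y ∈ N → ∃ s : ℂ, ∀ χ : G → ℂ, IsIrrCharacter G χ →
      classInner (fun n : N => χ n) θ ≠ 0 → χ y = s * χ r := by
  classical
  let H := (Subgroup.zpowers (QuotientGroup.mk' N x)).comap (QuotientGroup.mk' N)
  letI := Fintype.ofFinite H
  have hNH : N ≤ H := fun n hn => by
    show QuotientGroup.mk' N n ∈ Subgroup.zpowers (QuotientGroup.mk' N x)
    rw [show QuotientGroup.mk' N n = 1 from (QuotientGroup.eq_one_iff n).mpr hn]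
    exact one_mem _
  let N' := N.subgroupOf H
  haveI : N'.Normal := hN.subgroupOf H
  letI := Fintype.ofFinite N'
  let θ' : N' → ℂ := fun m => θ ⟨(m : H), Subgroup.mem_subgroupOf.mp m.2⟩
  have hθ' : IsIrrCharacter N' θ' := isIrr_subgroupOf N hNH hθ
  have hinv' : ∀ h : H, conjNormFun N' h θ' = θ' := fun h => funext fun m =>
    congrFun (hinv h) ⟨(m : H), Subgroup.mem_subgroupOf.mp m.2⟩
  have hxH : x ∈ H := Subgroup.mem_zpowers _
  have hcyc : IsCyclic (H ⧸ N') := by
    refine ⟨⟨QuotientGroup.mk ⟨x, hxH⟩, fun q => ?_⟩⟩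
    induction q using QuotientGroup.induction_on with | _ q => ?_
    obtain ⟨z, hz⟩ := q.2
    refine ⟨z, ?_⟩
    show (QuotientGroup.mk ⟨x, hxH⟩ : H ⧸ N') ^ z = _
    rw [← QuotientGroup.mk_zpow, QuotientGroup.eq]
    show ((((⟨x, hxH⟩ : H) ^ z)⁻¹ * q : H) : G) ∈ N
    rw [Subgroup.coe_mul, Subgroup.coe_inv, Subgroup.coe_zpow, ← QuotientGroup.eq]
    exact hz
  obtain ⟨τ, hτ, hτθ⟩ := exists_extension_of_cyclic hθ' (fun g m => congrFun (hinv' g) m) hcyc
  have hres : IsIrrCharacter N' (fun m : N' => τ m) := by rwa [show (fun m : N' => τ m) = θ' from funext hτθ]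
  -- one scalar for each character
  have hprop : ∀ χ : G → ℂ, IsIrrCharacter G χ → classInner (fun n : N => χ n) θ ≠ 0 →
      ∃ c : ℂ, ∀ y : H, x⁻¹ * y ∈ N → χ y = c * τ y := by
    intro χ hχ hover
    have hrep := isCharacter_restrict (isCharacter_of_irr hχ) H
    refine ⟨∑ ψ : IrrCharacter H, classInner (fun h : H => χ h) ψ *
      (if hψ : classInner (fun h : H => χ h) ψ ≠ 0 then
        (Classical.epsilon fun b : ℂ =>
          ∀ y : H, x⁻¹ * y ∈ N → (ψ : H → ℂ) y = b * τ y) else 0), fun y hy => ?_⟩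
    have hsum := congrFun (eq_sum_irr (isClassFunction_char hrep)) y
    simp only [Finset.sum_apply, Pi.smul_apply, smul_eq_mul] at hsum
    rw [hsum, Finset.sum_mul]
    refine Finset.sum_congr rfl fun ψ _ => ?_
    by_cases hψ : classInner (fun h : H => χ h) ψ ≠ 0
    swap
    · push Not at hψ
      rw [hψ]; simp
    rw [dif_pos hψ, mul_assoc]
    congr 1
    refine Classical.epsilon_spec (p := fun b : ℂ => ∀ y : H, x⁻¹ * y ∈ N → (ψ : H → ℂ) y = b * τ y) ?_ y hy
    -- the constituent lies over `θ`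
    obtain ⟨η, hη, hη0⟩ := exists_constituent (isCharacter_restrict (isCharacter_of_irr ψ.2) N')
      (fun e => irr_ne_zero ψ.2 (congrFun e 1))
    have hηθ : η = θ' := by
      by_contra hne
      have e0 : classInner (fun m : N' => χ ((m : H) : G)) η = 0 := by
        have h1 := clifford_invariant N hχ hθ hover hinv
        rw [show (fun m : N' => χ ((m : H) : G)) = classInner (fun n : N => χ n) θ • θ' from funext fun m =>
          congrFun h1 ⟨(m : H), Subgroup.mem_subgroupOf.mp m.2⟩,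
          classInner_smul_left, classInner_irr_ne hθ' hη (Ne.symm hne), mul_zero]
      have hdiff := isCharacter_sub_irr hrep ψ.2 hψ
      obtain ⟨n1, e1⟩ := classInner_char_nat (isCharacter_restrict hdiff N') (isCharacter_of_irr hη)
      obtain ⟨n2, e2⟩ := classInner_char_nat (isCharacter_restrict (isCharacter_of_irr ψ.2) N') (isCharacter_of_irr hη)
      have e3 : classInner (fun m : N' => χ ((m : H) : G)) η =
          classInner (fun m : N' => ((fun h : H => χ h) - (ψ : H → ℂ)) m) η +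
            classInner (fun m : N' => (ψ : H → ℂ) m) η := by
        rw [← classInner_add_left]
        congr 1
        funext m
        simp
      rw [e0, e1, e2, ← Nat.cast_add] at e3
      have h12 : n1 + n2 = 0 := Nat.cast_eq_zero.mp e3.symm
      exact hη0 (by rw [e2, show n2 = 0 by omega, Nat.cast_zero])
    obtain ⟨β, hβ, hβk, hψe⟩ := (gallagher N' (isCharacter_of_irr hτ) hres).2.2 (ψ : H → ℂ) ψ.2 (by
      rw [show (fun m : N' => τ m) = θ' from funext hτθ, ← hηθ]; exact hη0)
    refine ⟨β ⟨x, hxH⟩, fun z hz => ?_⟩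
    have hzn : z * ⟨x, hxH⟩⁻¹ ∈ N' := by
      show ((z * ⟨x, hxH⟩⁻¹ : H) : G) ∈ N
      have := hN.conj_mem _ hz x
      rwa [show x * (x⁻¹ * (z : G)) * x⁻¹ = (z : G) * x⁻¹ by group] at this
    rw [hψe, Pi.mul_apply]
    congr 1
    have e := apply_mul_of_kernel N' (isCharacter_of_irr hβ) hβk ⟨_, hzn⟩ (⟨x, hxH⟩ : H)
    simp only [inv_mul_cancel_right] at e
    exact e
  have hmem : ∀ y : G, x⁻¹ * y ∈ N → y ∈ H := fun y hy => by
    have := mul_mem hxH (hNH hy)
    rwa [mul_inv_cancel_left] at this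
  by_cases hz : ∀ y : H, x⁻¹ * y ∈ N → τ y = 0
  · refine ⟨x, by simp, fun y hy => ⟨0, fun χ hχ hover => ?_⟩⟩
    obtain ⟨c, hc⟩ := hprop χ hχ hover
    rw [hc ⟨y, hmem y hy⟩ hy, hz ⟨y, hmem y hy⟩ hy, mul_zero, zero_mul]
  · push Not at hz
    obtain ⟨r, hr, hr0⟩ := hz
    refine ⟨r, hr, fun y hy => ⟨τ ⟨y, hmem y hy⟩ / τ r, fun χ hχ hover => ?_⟩⟩
    obtain ⟨c, hc⟩ := hprop χ hχ hover
    rw [hc ⟨y, hmem y hy⟩ hy, hc r hr]
    field_simp

/-- The number of irreducible characters over an invariant character. -/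
theorem card_over_le (hθ : IsIrrCharacter N θ) (hinv : ∀ g : G, conjNormFun N g θ = θ) :
    Nat.card {χ : IrrCharacter G // classInner (fun n : N => (χ : G → ℂ) n) θ ≠ 0} ≤
      Nat.card (ConjClasses (G ⧸ N)) := by
  classical
  let S := {χ : IrrCharacter G // classInner (fun n : N => (χ : G → ℂ) n) θ ≠ 0}
  have hrep : ∀ C : ConjClasses (G ⧸ N), ∃ x : G, ConjClasses.mk (QuotientGroup.mk x) = C := fun C => by
    obtain ⟨q, rfl⟩ := ConjClasses.exists_rep C
    obtain ⟨x, rfl⟩ := QuotientGroup.mk_surjective q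
    exact ⟨x, rfl⟩
  choose x hx using hrep
  choose r hr hs using fun C => exists_rep N hθ hinv (x C)
  letI := Fintype.ofFinite (ConjClasses (G ⧸ N))
  letI := Fintype.ofFinite S
  let v : S → (ConjClasses (G ⧸ N) → ℂ) := fun χ C => (χ.1 : G → ℂ) (r C)
  have hli : LinearIndependent ℂ v := by
    rw [Fintype.linearIndependent_iff]
    intro c hc
    have h0 : ∀ g : G, ∑ χ : S, c χ * (χ.1 : G → ℂ) g = 0 := by
      intro g
      set C := ConjClasses.mk (QuotientGroup.mk g : G ⧸ N) with hC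
      obtain ⟨q, hq⟩ := isConj_iff.mp (ConjClasses.mk_eq_mk_iff_isConj.mp (hx C).symm)
      obtain ⟨a, rfl⟩ := QuotientGroup.mk_surjective q
      have hmem : (x C)⁻¹ * (a * g * a⁻¹) ∈ N := by
        rw [← QuotientGroup.eq, ← hq]
        rfl
      obtain ⟨s, hs'⟩ := hs C _ hmem
      have h1 : ∑ χ : S, c χ * (χ.1 : G → ℂ) (r C) = 0 := by
        have := congrFun hc C
        simpa [v, Finset.sum_apply] using this
      calc ∑ χ : S, c χ * (χ.1 : G → ℂ) g = ∑ χ : S, c χ * (χ.1 : G → ℂ) (a * g * a⁻¹) := by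
            simp only [isClassFunction_irr (Subtype.prop (Subtype.val _)) g a]
        _ = s * ∑ χ : S, c χ * (χ.1 : G → ℂ) (r C) := by
            rw [Finset.mul_sum]
            refine Finset.sum_congr rfl fun χ _ => ?_
            rw [hs' _ χ.1.2 χ.2]; ring
        _ = 0 := by rw [h1, mul_zero]
    exact Fintype.linearIndependent_iff.mp
      ((linearIndependent_irr (G := G)).comp (fun χ : S => χ.1) Subtype.val_injective) c
      (funext fun g => by simpa [Finset.sum_apply] using h0 g)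
  have h := hli.fintype_card_le_finrank
  rwa [Module.finrank_fintype_fun_eq_card, ← Nat.card_eq_fintype_card, ← Nat.card_eq_fintype_card] at h

end CfsgLib.KBlock
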