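import Cfsg.Agent.Lib.KBlock.Bound
import Cfsg.Agent.Lib.KBlock.Over
import Cfsg.Agent.S4965
import Cfsg.Agent.Lib.PLocal.SolvableSeparable
import Cfsg.Agent.Lib.PLengthTwo
import Cfsg.Agent.Lib.Blocks.FongReduction
import Cfsg.Agent.Lib.Blocks.MinMax

/-!
`k(B) ≤ 3 ^ (d - 1) * p ^ d` for blocks of solvable groups.
-/

set_option autoImplicit false
set_option linter.unusedSectionVars false
set_option linter.style.haveILetI false

namespace CfsgLib.KBlock

open Cfsg CfsgLib.SolvClass

universe u v

/-- The split extension through a module. -/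
theorem card_classes_le_aux {p : ℕ} [Fact p.Prime] {X : Type u} [Group X] [Finite X] [Group.IsSolvable X]
    (F : Subgroup X) [F.Normal] (hab : ∀ a ∈ F, ∀ b ∈ F, a * b = b * a)
    (hC : Subgroup.centralizer (F : Set X) ≤ F)
    (hcompl : ∀ W : Subgroup X, W.Normal → W ≤ F → ∃ M : Subgroup X, Subgroup.IsComplement' W M)
    (V : Type u) [AddCommGroup V] [Module (ZMod p) V] [Finite V] (ea : F → V) (ei : V → F)
    (h1 : ∀ a, ei (ea a) = a) (h2 : ∀ v, ea (ei v) = v) (hadd : ∀ a b, ea (a * b) = ea a + ea b)
    (hF : 1 < Nat.card F) :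
    ∃ a, 1 ≤ a ∧ Nat.card F = p ^ a ∧ Nat.card (ConjClasses X) ≤ 3 ^ (a - 1) * Nat.card F := by
  classical
  have hei : ∀ v w, ei (v + w) = ei v * ei w := fun v w => by
    conv_lhs => rw [← h2 v, ← h2 w, ← hadd]
    rw [h1]
  let φ : X ⧸ F →* MulAut F := QuotientGroup.lift F (MulAut.conjNormal (H := F)) fun f hf =>
    MonoidHom.mem_ker.mpr (MulEquiv.ext fun a => Subtype.ext (by
      rw [MulAut.conjNormal_apply, MulAut.one_apply, hab f hf a a.2, mul_inv_cancel_right]))
  have hφ : ∀ (x : X) (v : F), ((φ (QuotientGroup.mk x) v : F) : X) = x * v * x⁻¹ := fun x v =>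
    MulAut.conjNormal_apply x v
  let g : X ⧸ F → (V ≃+ V) := fun q =>
    { toFun := fun v => ea (φ q (ei v))
      invFun := fun v => ea ((φ q).symm (ei v))
      left_inv := fun v => by simp [h1, h2]
      right_inv := fun v => by simp [h1, h2]
      map_add' := fun v w => by rw [hei, map_mul, hadd] }
  let ρ : X ⧸ F →* (V ≃ₗ[ZMod p] V) :=
    { toFun := fun q => (g q).toLinearEquiv fun c x => ZMod.map_smul (g q).toAddMonoidHom c x
      map_one' := LinearEquiv.ext fun v => by
        show ea (φ 1 (ei v)) = v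
        rw [map_one, MulAut.one_apply, h2]
      map_mul' := fun q r => LinearEquiv.ext fun v => by
        show ea (φ (q * r) (ei v)) = ea (φ q (ei (ea (φ r (ei v)))))
        rw [h1, map_mul, MulAut.mul_apply] }
  have hρv : ∀ q v, ρ q v = ea (φ q (ei v)) := fun _ _ => rfl
  have hρ : Function.Injective ρ := (injective_iff_map_eq_one ρ).mpr fun q hq => by
    induction q using QuotientGroup.induction_on with | _ x => ?_
    refine (QuotientGroup.eq_one_iff x).mpr (hC (Subgroup.mem_centralizer_iff.mpr fun a ha => ?_))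
    have := congrArg (fun l : V ≃ₗ[ZMod p] V => ei (l (ea ⟨a, ha⟩))) hq
    simp only [hρv, LinearEquiv.coe_one, id_eq, h1] at this
    have e := congrArg Subtype.val this
    rw [hφ, mul_inv_eq_iff_eq_mul] at e
    exact e.symm
  have hcr : CR ρ := by
    intro U hU
    let W : Subgroup X :=
      { carrier := {x | ∃ h : x ∈ F, ea ⟨x, h⟩ ∈ U}
        mul_mem' := fun {x y} ⟨hx, hxU⟩ ⟨hy, hyU⟩ => ⟨mul_mem hx hy, by
          rw [show (⟨x * y, mul_mem hx hy⟩ : F) = ⟨x, hx⟩ * ⟨y, hy⟩ from rfl, hadd]; exact add_mem hxU hyU⟩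
        one_mem' := ⟨one_mem F, by
          have h0 : ea (1 : F) = 0 := by
            have := hadd 1 1
            rw [one_mul] at this
            exact left_eq_add.mp this
          show ea (1 : F) ∈ U
          rw [h0]; exact zero_mem U⟩
        inv_mem' := fun {x} ⟨hx, hxU⟩ => ⟨inv_mem hx, by
          have h0 : ea (⟨x, hx⟩⁻¹ : F) = - ea ⟨x, hx⟩ := by
            have h0 : ea (1 : F) = 0 := by
              have := hadd 1 1
              rw [one_mul] at this
              exact left_eq_add.mp this
            have := hadd (⟨x, hx⟩⁻¹) ⟨x, hx⟩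
            rw [inv_mul_cancel, h0] at this
            exact eq_neg_of_add_eq_zero_left this.symm
          show ea (⟨x, hx⟩⁻¹ : F) ∈ U
          rw [h0]; exact neg_mem hxU⟩ }
    have hWn : W.Normal := ⟨fun x ⟨hx, hxU⟩ y => ⟨‹F.Normal›.conj_mem x hx y, by
      have := hU (QuotientGroup.mk y) _ hxU
      rw [hρv, h1] at this
      convert this using 2
      exact Subtype.ext (hφ y ⟨x, hx⟩).symm⟩⟩
    obtain ⟨M, hM⟩ := hcompl W hWn fun x hx => hx.1
    haveI : (F ⊓ M).Normal := ⟨fun x hx y => by
      obtain ⟨⟨⟨w, hw⟩, ⟨m, hm⟩⟩, e, -⟩ := Subgroup.IsComplement.existsUnique hM y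
      have e' : w * m = y := e
      have h3 : m * x * m⁻¹ ∈ F ⊓ M := ⟨‹F.Normal›.conj_mem x hx.1 m, M.mul_mem (M.mul_mem hm hx.2) (M.inv_mem hm)⟩
      rw [← e', show w * m * x * (w * m)⁻¹ = w * (m * x * m⁻¹) * w⁻¹ by group, hab w hw.1 _ h3.1,
        mul_inv_cancel_right]
      exact h3⟩
    let U' : Submodule (ZMod p) V := AddSubgroup.toZModSubmodule p
      { carrier := {v | ((ei v : F) : X) ∈ M}
        add_mem' := fun {v w} hv hw => by
          show ((ei (v + w) : F) : X) ∈ M
          rw [hei, Subgroup.coe_mul]; exact mul_mem hv hw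
        zero_mem' := by
          have h0 : ei 0 = 1 := by
            have := hei 0 0
            rw [add_zero] at this
            exact left_eq_mul.mp this
          show ((ei 0 : F) : X) ∈ M
          rw [h0]; exact one_mem M
        neg_mem' := fun {v} hv => by
          have h0 : ei 0 = 1 := by
            have := hei 0 0
            rw [add_zero] at this
            exact left_eq_mul.mp this
          have h3 : ei (-v) = (ei v)⁻¹ := eq_inv_of_mul_eq_one_left (by rw [← hei, neg_add_cancel, h0])
          show ((ei (-v) : F) : X) ∈ M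
          rw [h3, Subgroup.coe_inv]; exact inv_mem hv }
    have hmemU' : ∀ v, v ∈ U' ↔ ((ei v : F) : X) ∈ M := fun v => Iff.rfl
    refine ⟨U', ?_, ?_, ?_⟩
    · intro q v hv
      induction q using QuotientGroup.induction_on with | _ y => ?_
      rw [hmemU', hρv, h1, hφ]
      exact ((inferInstance : (F ⊓ M).Normal).conj_mem _ ⟨(ei v).2, (hmemU' v).mp hv⟩ y).2
    · rw [disjoint_iff, Submodule.eq_bot_iff]
      rintro v ⟨hvU, hvM⟩
      have hW : ((ei v : F) : X) ∈ W ⊓ M := ⟨⟨(ei v).2, by rw [Subtype.coe_eta, h2]; exact hvU⟩, (hmemU' v).mp hvM⟩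
      rw [hM.disjoint.eq_bot, Subgroup.mem_bot, OneMemClass.coe_eq_one] at hW
      rw [← h2 v, hW]
      have := hadd 1 1
      rw [one_mul] at this
      exact left_eq_add.mp this
    · rw [codisjoint_iff, Submodule.eq_top_iff']
      intro v
      obtain ⟨⟨⟨w, hw⟩, ⟨m, hm⟩⟩, e, -⟩ := hM.existsUnique ((ei v : F) : X)
      have e' : w * m = ((ei v : F) : X) := e
      have hmF : m ∈ F := by
        have : m = w⁻¹ * ((ei v : F) : X) := by rw [← e', inv_mul_cancel_left]
        rw [this]; exact mul_mem (inv_mem hw.1) (ei v).2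
      refine Submodule.mem_sup.mpr ⟨ea ⟨w, hw.1⟩, hw.2, ea ⟨m, hmF⟩, ?_, ?_⟩
      · rw [hmemU', h1]; exact hm
      · rw [← hadd, ← h2 v]
        congr 1
        exact Subtype.ext e'
  have hcardV : Nat.card V = Nat.card F := Nat.card_congr ⟨ei, ea, h2, h1⟩
  have hfin := Module.natCard_eq_pow_finrank (K := ZMod p) (V := V)
  rw [hcardV, Nat.card_zmod] at hfin
  have hd1 : 1 ≤ Module.finrank (ZMod p) V := by
    refine Nat.one_le_iff_ne_zero.mpr fun h => ?_
    rw [h, pow_zero] at hfin
    omega
  refine ⟨_, hd1, hfin, ?_⟩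
  have hb := kBound (Module.finrank (ZMod p) V) (ZMod p) V (X ⧸ F) ρ hρ hcr rfl hd1
  rw [hcardV] at hb
  refine ((Cfsg.Agent.S4965.result F hab φ hφ).trans (le_of_eq ?_)).trans hb
  let e1 : F ≃* Multiplicative V :=
    { toFun := fun a => Multiplicative.ofAdd (ea a)
      invFun := fun v => ei v.toAdd
      left_inv := h1
      right_inv := h2
      map_mul' := hadd }
  let E : SemidirectProduct F (X ⧸ F) φ ≃* SemidirectProduct (Multiplicative V) (X ⧸ F) (act ρ) :=
    SemidirectProduct.congr e1 (MulEquiv.refl _) fun q => MulEquiv.ext fun a => by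
      show Multiplicative.ofAdd (ea (φ q a)) = Multiplicative.ofAdd (ea (φ q (ei (ea a))))
      rw [h1]
  haveI : Finite (SemidirectProduct F (X ⧸ F) φ) := Finite.of_equiv _ SemidirectProduct.equivProd.symm
  haveI : Finite (SemidirectProduct (Multiplicative V) (X ⧸ F) (act ρ)) := Finite.of_equiv _ E.toEquiv
  exact le_antisymm (card_conjClasses_congr_le' E.symm) (card_conjClasses_congr_le' E)
where
  card_conjClasses_congr_le' {A B : Type u} [Group A] [Group B] [Finite A] (e : A ≃* B) :
      Nat.card (ConjClasses B) ≤ Nat.card (ConjClasses A) :=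
    Nat.card_le_card_of_surjective _ (ConjClasses.map_surjective (f := e.toMonoidHom) e.surjective)

/-- Nilpotent normal subgroups are `p`-groups when the `p'`-core is trivial. -/
theorem isPGroup_of_core {p : ℕ} [Fact p.Prime] {X : Type u} [Group X] [Finite X] (hO : pPrimeCore p X = ⊥)
    (N : Subgroup X) [N.Normal] (hN : Group.IsNilpotent N) : IsPGroup p N := by
  refine IsPGroup.of_card (n := (Nat.card N).primeFactorsList.length) ?_
  refine Nat.eq_prime_pow_of_unique_prime_dvd Nat.card_pos.ne' fun {q} hq hdvd => ?_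
  by_contra hne
  haveI := Fact.mk hq
  obtain ⟨S⟩ : Nonempty (Sylow q N) := inferInstance
  haveI : (S : Subgroup N).Normal := by have := hN; infer_instance
  haveI := Sylow.characteristic_of_normal S this
  obtain ⟨i, hi⟩ := IsPGroup.iff_card.mp S.2
  have h : (S : Subgroup N).map N.subtype ≤ pPrimeCore p X := CfsgLib.le_pPrimeCore (by
    rw [Subgroup.card_map_of_injective N.subtype_injective, hi]
    exact Nat.Coprime.pow_left _ ((Nat.coprime_primes hq Fact.out).mpr hne))
  rw [hO, le_bot_iff, Subgroup.map_eq_bot_iff_of_injective _ N.subtype_injective] at h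
  exact S.ne_bot_of_dvd_card hdvd h

/-- Class numbers of solvable groups with trivial `p'`-core. -/
theorem core_bound {p : ℕ} [Fact p.Prime] {H : Type u} [Group H] [Finite H] [Group.IsSolvable H]
    (hO : pPrimeCore p H = ⊥) {d : ℕ} (hd : 1 ≤ d) (hS : ∀ P : Subgroup H, IsPGroup p P → Nat.card P ≤ p ^ d) :
    Nat.card (ConjClasses H) ≤ 3 ^ (d - 1) * p ^ d := by
  classical
  rcases subsingleton_or_nontrivial H with hH | hH
  · exact le_trans ((Nat.card_le_card_of_surjective _ ConjClasses.mk_surjective).trans (le_of_eq Nat.card_unique))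
      (Nat.one_le_iff_ne_zero.mpr (Nat.mul_ne_zero (by positivity) (pow_ne_zero _ (Fact.out : p.Prime).ne_zero)))
  let W := frattini H
  have hWp : IsPGroup p W := isPGroup_of_core hO W frattini_nilpotent
  let X := H ⧸ W
  have hΦ : frattini X = ⊥ := PLengthTwo.frattini_quotient_eq_bot W rfl
  have hOX : pPrimeCore p X = ⊥ := PLengthTwo.pPrimeCore_quotient_frattini hO hWp le_rfl
  haveI : Nontrivial X := by
    rw [← not_subsingleton_iff_nontrivial]
    intro hs
    have htop : W = ⊤ := (Subgroup.eq_top_iff' W).mpr fun x => (QuotientGroup.eq_one_iff x).mp (Subsingleton.elim _ _)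
    have h := FrattiniLemmas.eq_top_of_sup_eq_top (H := ⊥) (le_refl (frattini H)) (by rw [bot_sup_eq]; exact htop)
    exact bot_ne_top h
  let F := fittingSubgroup X
  haveI hFn : Group.IsNilpotent F := CfsgLib.isNilpotent_fittingSubgroup
  have hFp : IsPGroup p F := isPGroup_of_core hOX F hFn
  have hker : ∀ x ∈ frattini F, x = 1 := fun x hx => by
    have h := FrattiniLemmas.map_frattini_le F ⟨x, hx, rfl⟩
    rw [hΦ, Subgroup.mem_bot] at h
    exact Subtype.ext h
  have hab : ∀ a ∈ F, ∀ b ∈ F, a * b = b * a := fun a ha b hb => by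
    have h := hker _ (CfsgLib.commutator_le_frattini_pGroup hFp (Subgroup.commutator_mem_commutator
      (Subgroup.mem_top (⟨a, ha⟩ : F)) (Subgroup.mem_top (⟨b, hb⟩ : F))))
    exact congrArg Subtype.val (commutatorElement_eq_one_iff_mul_comm.mp h)
  have hexp : ∀ a : F, a ^ p = 1 := fun a => hker _ (CfsgLib.pow_mem_frattini_pGroup hFp a)
  have hF1 : 1 < Nat.card F := by
    refine (Subgroup.one_lt_card_iff_ne_bot F).mpr fun e => ?_
    have h := CfsgLib.centralizer_fitting_le_of_solvable (G := X)
    rw [show fittingSubgroup X = ⊥ from e] at h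
    obtain ⟨x, hx⟩ := exists_ne (1 : X)
    exact hx (Subgroup.mem_bot.mp (h (Subgroup.mem_centralizer_iff.mpr fun a ha => by
      rw [Subgroup.mem_bot.mp ha, one_mul, mul_one])))
  letI : CommGroup F := { (inferInstance : Group F) with mul_comm := fun a b => Subtype.ext (hab a a.2 b b.2) }
  letI : Module (ZMod p) (Additive F) := AddCommGroup.zmodModule fun a => hexp a.toMul
  haveI : Finite (Additive F) := Finite.of_equiv F Additive.ofMul
  obtain ⟨a, ha1, hFcard, hk⟩ := card_classes_le_aux (p := p) F hab CfsgLib.centralizer_fitting_le_of_solvable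
    (fun A hA hle => by
      haveI := hA
      haveI : IsMulCommutative A := ⟨⟨fun x y => Subtype.ext (hab x (hle x.2) y (hle y.2))⟩⟩
      exact FrattiniLemmas.exists_complement A (by rw [hΦ, inf_bot_eq]))
    (Additive F) Additive.ofMul Additive.toMul (fun _ => rfl) (fun _ => rfl) (fun _ _ => rfl) hF1
  have hWF : Nat.card W * Nat.card F ≤ p ^ d := by
    refine le_of_eq_of_le ?_ (hS (F.comap (QuotientGroup.mk' W)) ?_)
    · rw [CfsgLib.card_comap_mk W F, mul_comm]
    · exact hFp.comap_of_ker_isPGroup (QuotientGroup.mk' W) (by rw [QuotientGroup.ker_mk']; exact hWp)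
  have had : a ≤ d := by
    refine (Nat.pow_le_pow_iff_right (Fact.out : p.Prime).one_lt).mp ?_
    rw [← hFcard]
    exact le_trans (Nat.le_mul_of_pos_left _ Nat.card_pos) hWF
  refine (Cfsg.Agent.S4201.result W).trans ?_
  refine (Nat.mul_le_mul (Nat.card_le_card_of_surjective _ ConjClasses.mk_surjective) hk).trans ?_
  rw [mul_left_comm]
  exact Nat.mul_le_mul (Nat.pow_le_pow_right (by norm_num) (Nat.sub_le_sub_right had 1)) hWF

/-- The block bound. -/
theorem block_bound : ∀ (n : ℕ) {G : Type u} [Group G] [Fintype G] [Group.IsSolvable G] (p : ℕ) [Fact p.Prime]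
    (M : Ideal AlgInt), IsPModular p M → ∀ B : Set (IrrCharacter G), IsPBlock M B → Nat.card G = n →
      ∀ d, blockDefect p B = d → 0 < d → Set.ncard B ≤ 3 ^ (d - 1) * p ^ d := by
  intro n
  induction n using Nat.strong_induction_on with
  | _ n ih =>
    intro G _ _ _ p _ M hM B hB hn d hd hd0
    classical
    obtain ⟨D, hD⟩ := Blocks.exists_defectGroup hM hB
    have hcard := Blocks.card_defectGroup hM hB hD
    rw [hd] at hcard
    have hsolv : IsPSolvable p G := isPSolvable_of_solvable' p G
    rcases Blocks.fong_reduction hM hsolv hB hD with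
      ⟨θ, inst, hθ, hinv, hmem, S, rfl⟩ | ⟨T, instT, B', D', x, hT, hB', hD', hx, f, -⟩
    · have hset : Set.ncard B ≤ Nat.card (ConjClasses (G ⧸ pPrimeCore p G)) := by
        refine le_of_eq_of_le ?_ (card_over_le (pPrimeCore p G) hθ hinv)
        rw [← Nat.card_coe_set_eq]
        exact Nat.card_congr (Equiv.subtypeEquivRight hmem)
      refine hset.trans (core_bound (CfsgLib.pPrimeCore_quotient_eq_bot p) hd0 fun P hP => ?_)
      obtain ⟨R, hR⟩ := hP.exists_le_sylow
      refine (Nat.card_le_card_of_injective _ (Subgroup.inclusion_injective hR)).trans ?_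
      let R' : Sylow p (G ⧸ pPrimeCore p G) := S.mapSurjective (QuotientGroup.mk'_surjective _)
      rw [← hcard, Sylow.card_eq_multiplicity R, ← Sylow.card_eq_multiplicity R', Sylow.coe_mapSurjective]
      exact Nat.le_of_dvd Nat.card_pos (Subgroup.card_map_dvd _ _)
    · have hcD : Nat.card D' = Nat.card D := by
        rw [← hx, Subgroup.card_map_of_injective (MulEquiv.injective _),
          Subgroup.card_map_of_injective T.subtype_injective]
      have hd' : blockDefect p B' = d := by
        have h := Blocks.card_defectGroup hM hB' hD'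
        rw [hcD, hcard] at h
        exact (Nat.pow_right_injective (Fact.out : p.Prime).two_le h).symm
      have hlt : Nat.card T < n := by
        rw [← hn]
        refine lt_of_le_of_ne (Subgroup.card_le_card_group T) fun e => hT (Subgroup.eq_top_of_card_eq T e)
      refine le_of_eq_of_le ?_ (ih _ hlt p M hM B' hB' rfl d hd' hd0)
      rw [← Nat.card_coe_set_eq, ← Nat.card_coe_set_eq]
      exact (Nat.card_congr f).symm
where
  isPSolvable_of_solvable' (p : ℕ) [Fact p.Prime] (G : Type u) [Group G] [Finite G] [hs : Group.IsSolvable G] :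
      IsPSolvable p G := CfsgLib.PLocal.isPSolvable_of_isSolvable _ G rfl hs

end CfsgLib.KBlock
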