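import Mathlib
import Cfsg.Agent.S4201
import Cfsg.Agent.S4958

/-!
Class numbers of semidirect products of a module by a linear group.
-/

set_option autoImplicit false
set_option linter.unusedSectionVars false
set_option linter.style.haveILetI false

namespace CfsgLib.KBlock

universe u v w

variable {k : Type w} [Field k] {V : Type v} [AddCommGroup V] [Module k V] {Y : Type u} [Group Y]

/-- The action by multiplicative automorphisms. -/
def act (ρ : Y →* (V ≃ₗ[k] V)) : Y →* MulAut (Multiplicative V) where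
  toFun := fun y => AddEquiv.toMultiplicative (ρ y).toAddEquiv
  map_one' := MulEquiv.ext fun x => by
    show Multiplicative.ofAdd (ρ 1 x.toAdd) = x
    rw [map_one]; rfl
  map_mul' := fun y z => MulEquiv.ext fun x => by
    show Multiplicative.ofAdd (ρ (y * z) x.toAdd) = Multiplicative.ofAdd (ρ y (ρ z x.toAdd))
    rw [map_mul]; rfl

theorem act_apply (ρ : Y →* (V ≃ₗ[k] V)) (y : Y) (x : Multiplicative V) :
    act ρ y x = Multiplicative.ofAdd (ρ y x.toAdd) := rfl

/-- The class number of `V ⋊ Y`. -/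
noncomputable def kV (ρ : Y →* (V ≃ₗ[k] V)) : ℕ :=
  Nat.card (ConjClasses (SemidirectProduct (Multiplicative V) Y (act ρ)))

/-- The restriction to an invariant subspace. -/
def sub (ρ : Y →* (V ≃ₗ[k] V)) (U : Submodule k V) (hU : ∀ g, ∀ x ∈ U, ρ g x ∈ U) :
    Y →* (U ≃ₗ[k] U) where
  toFun := fun g =>
    { toFun := fun x => ⟨ρ g x, hU g x x.2⟩
      invFun := fun x => ⟨ρ g⁻¹ x, hU g⁻¹ x x.2⟩
      left_inv := fun x => Subtype.ext (by
        show ρ g⁻¹ (ρ g x) = x
        rw [← LinearEquiv.mul_apply, ← map_mul, inv_mul_cancel, map_one]; rfl)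
      right_inv := fun x => Subtype.ext (by
        show ρ g (ρ g⁻¹ x) = x
        rw [← LinearEquiv.mul_apply, ← map_mul, mul_inv_cancel, map_one]; rfl)
      map_add' := fun x y => Subtype.ext (by simp)
      map_smul' := fun c x => Subtype.ext (by simp) }
  map_one' := LinearEquiv.ext fun x => Subtype.ext (by simp)
  map_mul' := fun g h => LinearEquiv.ext fun x => Subtype.ext (by simp [LinearEquiv.mul_apply])

theorem sub_apply (ρ : Y →* (V ≃ₗ[k] V)) (U : Submodule k V) (hU : ∀ g, ∀ x ∈ U, ρ g x ∈ U) (g : Y) (x : U) :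
    (sub ρ U hU g x : V) = ρ g x := rfl

/-- Complete reducibility. -/
def CR (ρ : Y →* (V ≃ₗ[k] V)) : Prop :=
  ∀ U : Submodule k V, (∀ g, ∀ x ∈ U, ρ g x ∈ U) →
    ∃ U' : Submodule k V, (∀ g, ∀ x ∈ U', ρ g x ∈ U') ∧ IsCompl U U'

theorem cr_sub {ρ : Y →* (V ≃ₗ[k] V)} (h : CR ρ) (U : Submodule k V) (hU : ∀ g, ∀ x ∈ U, ρ g x ∈ U) :
    CR (sub ρ U hU) := by
  intro W hW
  obtain ⟨W', hW', hc⟩ := h (W.map U.subtype) (by
    rintro g _ ⟨x, hx, rfl⟩
    exact ⟨_, hW g x hx, rfl⟩)
  refine ⟨W'.comap U.subtype, fun g x hx => hW' g _ hx, ?_, ?_⟩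
  · rw [disjoint_iff, Submodule.eq_bot_iff]
    rintro x ⟨h1, h2⟩
    have := hc.disjoint.le_bot ⟨(⟨x, h1, rfl⟩ : (x : V) ∈ W.map U.subtype), h2⟩
    exact Subtype.ext this
  · rw [codisjoint_iff, Submodule.eq_top_iff']
    intro x
    obtain ⟨a, ⟨w, hw, rfl⟩, b, hb, hab⟩ := Submodule.mem_sup.mp
      (hc.sup_eq_top ▸ Submodule.mem_top : (x : V) ∈ W.map U.subtype ⊔ W')
    refine Submodule.mem_sup.mpr ⟨w, hw, x - w, ?_, add_sub_cancel _ _⟩
    show ((x - w : U) : V) ∈ W'
    rw [Submodule.coe_sub, show (x : V) - w = b from sub_eq_iff_eq_add'.mpr hab.symm]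
    exact hb

theorem cr_kerLift {ρ : Y →* (V ≃ₗ[k] V)} (h : CR ρ) : CR (QuotientGroup.kerLift ρ) := by
  intro U hU
  obtain ⟨U', h1, h2⟩ := h U fun g x hx => hU (g : Y ⧸ ρ.ker) x hx
  exact ⟨U', fun g => QuotientGroup.induction_on g fun g => h1 g, h2⟩

/-- Clifford: normal subgroups act completely reducibly. -/
theorem cr_normal [FiniteDimensional k V] {ρ : Y →* (V ≃ₗ[k] V)} (h : CR ρ) (N : Subgroup Y) [N.Normal] :
    CR (ρ.comp N.subtype) := by
  classical
  intro W hW
  let Inv : Submodule k V → Prop := fun U => ∀ n : N, ∀ x ∈ U, ρ n x ∈ U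
  let S : Set (Submodule k V) := {T | Inv T ∧ T ≠ ⊥ ∧ ∀ T' ≤ T, Inv T' → T' = ⊥ ∨ T' = T}
  let soc : Submodule k V := sSup S
  have hsocinv : ∀ g : Y, ∀ x ∈ soc, ρ g x ∈ soc := by
    intro g
    show soc ≤ soc.comap (ρ g : V →ₗ[k] V)
    refine sSup_le fun T hT => Submodule.map_le_iff_le_comap.mp (le_sSup ?_)
    have hcj : ∀ (n : N) (x : V), ρ n (ρ g x) = ρ g (ρ (⟨g⁻¹ * n * g, by simpa using ‹N.Normal›.conj_mem _ n.2 g⁻¹⟩ : N) x) := by
      intro n x
      rw [← LinearEquiv.mul_apply, ← map_mul, ← LinearEquiv.mul_apply, ← map_mul]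
      congr 2; group
    refine ⟨?_, ?_, ?_⟩
    · rintro n _ ⟨x, hx, rfl⟩
      exact ⟨_, hT.1 _ x hx, (hcj n x).symm⟩
    · intro e
      exact hT.2.1 (Submodule.map_injective_of_injective (ρ g).injective (e.trans (Submodule.map_bot (ρ g : V →ₗ[k] V)).symm))
    · intro T' hT' hinv
      have hle : T'.comap (ρ g : V →ₗ[k] V) ≤ T := fun x hx => by
        obtain ⟨y, hy, hyx⟩ := hT' hx
        rwa [← (ρ g).injective hyx]
      have hinv' : Inv (T'.comap (ρ g : V →ₗ[k] V)) := fun n x hx => by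
        show ρ g (ρ n x) ∈ T'
        have := hinv ⟨g * n * g⁻¹, ‹N.Normal›.conj_mem _ n.2 g⟩ _ hx
        simp only [LinearEquiv.coe_coe] at this
        rw [← LinearEquiv.mul_apply, ← map_mul, inv_mul_cancel_right, map_mul, LinearEquiv.mul_apply] at this
        exact this
      rcases hT.2.2 _ hle hinv' with e | e
      · left
        rw [eq_bot_iff]
        intro x hx
        obtain ⟨y, hy, rfl⟩ := hT' hx
        have : y ∈ T'.comap (ρ g : V →ₗ[k] V) := hx
        rw [e, Submodule.mem_bot] at this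
        rw [this, map_zero]; exact zero_mem _
      · right
        refine le_antisymm hT' ?_
        rintro _ ⟨y, hy, rfl⟩
        have : y ∈ T'.comap (ρ g : V →ₗ[k] V) := e ▸ hy
        exact this
  have hmin : ∀ U : Submodule k V, Inv U → U ≠ ⊥ → ∃ T ∈ S, T ≤ U := by
    intro U
    induction hd : Module.finrank k U using Nat.strong_induction_on generalizing U with
    | _ d ih =>
      intro hU hU0
      by_cases hmin : ∀ T' ≤ U, Inv T' → T' = ⊥ ∨ T' = U
      · exact ⟨U, ⟨hU, hU0, hmin⟩, le_rfl⟩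
      · push Not at hmin
        obtain ⟨T', hle, hinv, h0, hne⟩ := hmin
        obtain ⟨T, hT, hTle⟩ := ih _ (hd ▸ Submodule.finrank_lt_finrank_of_lt (lt_of_le_of_ne hle hne)) T' rfl hinv h0
        exact ⟨T, hT, hTle.trans hle⟩
  have hsoc : soc = ⊤ := by
    obtain ⟨U', hU', hc⟩ := h soc hsocinv
    by_contra hne
    have hU0 : U' ≠ ⊥ := fun e => hne (by simpa [e] using hc.sup_eq_top)
    obtain ⟨T, hT, hTle⟩ := hmin U' (fun n x hx => hU' n x hx) hU0
    exact hT.2.1 (le_bot_iff.mp (hc.disjoint (le_sSup hT) hTle))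
  obtain ⟨W', ⟨hW'inv, hW'd⟩, hW'max⟩ : ∃ W' : Submodule k V, (Inv W' ∧ W ⊓ W' = ⊥) ∧
      ∀ Z : Submodule k V, Inv Z ∧ W ⊓ Z = ⊥ → W' ≤ Z → Z = W' := by
    have hne : ∃ m, ∃ Z : Submodule k V, (Inv Z ∧ W ⊓ Z = ⊥) ∧ Module.finrank k V - Module.finrank k Z = m :=
      ⟨_, ⊥, ⟨fun n x hx => by rw [(Submodule.mem_bot k).mp hx, map_zero]; exact zero_mem _, inf_bot_eq _⟩, rfl⟩
    obtain ⟨Z, hZ, hZm⟩ := Nat.find_spec hne
    refine ⟨Z, hZ, fun Z' hZ' hle => (Submodule.eq_of_le_of_finrank_le hle ?_).symm⟩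
    have h1 := Nat.find_min' hne ⟨Z', hZ', rfl⟩
    have h2 := Submodule.finrank_le Z'
    have h3 := Submodule.finrank_le Z
    omega
  refine ⟨W', hW'inv, disjoint_iff.mpr hW'd, codisjoint_iff.mpr ?_⟩
  rw [eq_top_iff, ← hsoc]
  refine sSup_le fun T hT => ?_
  have hsupinv : Inv (T ⊓ (W ⊔ W')) := fun n x hx => ⟨hT.1 n x hx.1, by
    obtain ⟨a, ha, b, hb, rfl⟩ := Submodule.mem_sup.mp hx.2
    rw [map_add]
    exact add_mem (Submodule.mem_sup_left (hW n a ha)) (Submodule.mem_sup_right (hW'inv n b hb))⟩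
  rcases hT.2.2 _ inf_le_left hsupinv with e | e
  · exfalso
    have hnew : W ⊓ (W' ⊔ T) = ⊥ := by
      rw [Submodule.eq_bot_iff]
      rintro x ⟨hxW, hx⟩
      obtain ⟨a, ha, t, ht, rfl⟩ := Submodule.mem_sup.mp hx
      have : t ∈ T ⊓ (W ⊔ W') := ⟨ht, by
        have : (a + t) + (-a) ∈ W ⊔ W' := add_mem (Submodule.mem_sup_left hxW) (Submodule.mem_sup_right (neg_mem ha))
        rwa [add_neg_cancel_comm] at this⟩
      rw [e, Submodule.mem_bot] at this
      subst this
      have h2 : a + 0 ∈ W ⊓ W' := ⟨hxW, by simpa using ha⟩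
      rw [hW'd] at h2
      exact h2
    have hZ := hW'max (W' ⊔ T) ⟨fun n x hx => by
      obtain ⟨a, ha, b, hb, rfl⟩ := Submodule.mem_sup.mp hx
      rw [map_add]
      exact add_mem (Submodule.mem_sup_left (hW'inv n a ha)) (Submodule.mem_sup_right (hT.1 n b hb)), hnew⟩ le_sup_left
    refine hT.2.1 (eq_bot_iff.mpr (le_trans (le_inf le_rfl ?_) (le_of_eq e)))
    exact le_trans (sup_eq_left.mp hZ) le_sup_right
  · exact e ▸ inf_le_right

/-- A normal `p`-subgroup of a completely reducible faithful group is trivial. -/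
theorem pgroup_eq_bot [Finite V] {ρ : Y →* (V ≃ₗ[k] V)} (hρ : Function.Injective ρ) (h : CR ρ) {p : ℕ}
    [Fact p.Prime] (hV : ∀ x : V, p • x = 0) (P : Subgroup Y) [P.Normal] [Finite P] (hP : IsPGroup p P) :
    P = ⊥ := by
  classical
  letI : MulAction P V := MulAction.compHom V (ρ.comp P.subtype)
  have hsmul : ∀ (g : P) (x : V), g • x = ρ g x := fun _ _ => rfl
  let F : Submodule k V :=
    { carrier := {x | ∀ g : P, ρ g x = x}
      add_mem' := fun {x y} hx hy g => by rw [map_add, hx g, hy g]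
      zero_mem' := fun g => map_zero _
      smul_mem' := fun c x hx g => by rw [map_smul, hx g] }
  obtain ⟨U, hU, hc⟩ := h F fun x y hy g => by
    have h1 := hy ⟨x⁻¹ * g * x, by simpa using ‹P.Normal›.conj_mem g g.2 x⁻¹⟩
    rw [← LinearEquiv.mul_apply, ← map_mul]
    conv_rhs => rw [← h1, ← LinearEquiv.mul_apply, ← map_mul]
    congr 2; group
  by_cases hU0 : U = ⊥
  · refine (Subgroup.eq_bot_iff_forall P).mpr fun g hg => hρ (LinearEquiv.ext fun x => ?_)
    rw [map_one]
    have hx : x ∈ F := by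
      have := hc.sup_eq_top
      rw [hU0, sup_bot_eq] at this
      rw [this]; exact Submodule.mem_top
    exact hx ⟨g, hg⟩
  exfalso
  letI : MulAction P U := MulAction.compHom U ((sub ρ U hU).comp P.subtype)
  obtain ⟨u, hu⟩ := (Submodule.ne_bot_iff U).mp hU0
  have hdvd : p ∣ Nat.card U := by
    have ho : addOrderOf (⟨u, hu.1⟩ : U) = p := addOrderOf_eq_prime (Subtype.ext (hV u))
      fun e => hu.2 (congrArg Subtype.val e)
    rw [← ho]; exact addOrderOf_dvd_natCard _
  obtain ⟨w, hw, hw0⟩ := hP.exists_fixed_point_of_prime_dvd_card_of_fixed_point U hdvd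
    (show (0 : U) ∈ MulAction.fixedPoints P U from fun g => map_zero (sub ρ U hU g))
  have hwF : (w : V) ∈ F := fun g => congrArg Subtype.val (hw g)
  exact hw0 (Subtype.ext ((Submodule.mem_bot k).mp (hc.disjoint.le_bot ⟨hwF, w.2⟩))).symm

/-! ### Bounds -/

section bounds

variable [Finite V] [Finite Y]

theorem kV_le_of_normal (ρ : Y →* (V ≃ₗ[k] V)) (N : Subgroup Y) [N.Normal] :
    kV ρ ≤ kV (ρ.comp N.subtype) * Nat.card (ConjClasses (Y ⧸ N)) := by
  let X := SemidirectProduct (Multiplicative V) Y (act ρ)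
  haveI : Finite X := Finite.of_equiv _ SemidirectProduct.equivProd.symm
  let f : X →* Y ⧸ N := (QuotientGroup.mk' N).comp SemidirectProduct.rightHom
  let i : SemidirectProduct (Multiplicative V) N (act (ρ.comp N.subtype)) →* X :=
    SemidirectProduct.map (MonoidHom.id _) N.subtype (fun g => rfl)
  let i' : SemidirectProduct (Multiplicative V) N (act (ρ.comp N.subtype)) →* f.ker :=
    i.codRestrict f.ker fun x => (QuotientGroup.eq_one_iff _).mpr x.right.2
  have hi : Function.Surjective i' := fun x =>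
    ⟨⟨x.1.left, ⟨x.1.right, (QuotientGroup.eq_one_iff _).mp x.2⟩⟩, Subtype.ext (SemidirectProduct.ext rfl rfl)⟩
  haveI : Finite (SemidirectProduct (Multiplicative V) N (act (ρ.comp N.subtype))) :=
    Finite.of_equiv _ SemidirectProduct.equivProd.symm
  refine (Cfsg.Agent.S4201.result f.ker).trans (Nat.mul_le_mul
    (Nat.card_le_card_of_surjective _ (ConjClasses.map_surjective hi)) (le_of_eq ?_))
  let e := QuotientGroup.quotientKerEquivOfSurjective f
    ((QuotientGroup.mk'_surjective N).comp SemidirectProduct.rightHom_surjective)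
  exact Nat.card_congr (Equiv.ofBijective (ConjClasses.map e.toMonoidHom)
    ⟨fun a b h => by
      induction a using Quotient.inductionOn with | _ a => ?_
      induction b using Quotient.inductionOn with | _ b => ?_
      have h' := isConj_iff.mp (ConjClasses.mk_eq_mk_iff_isConj.mp h)
      obtain ⟨c, hc⟩ := h'
      obtain ⟨d, rfl⟩ := e.surjective c
      refine ConjClasses.mk_eq_mk_iff_isConj.mpr (isConj_iff.mpr ⟨d, e.injective ?_⟩)
      simpa using hc, ConjClasses.map_surjective e.surjective⟩)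

theorem kV_split [FiniteDimensional k V] (ρ : Y →* (V ≃ₗ[k] V)) (U U' : Submodule k V)
    (hU : ∀ g, ∀ x ∈ U, ρ g x ∈ U) (hU' : ∀ g, ∀ x ∈ U', ρ g x ∈ U') (hc : IsCompl U U') :
    kV ρ ≤ kV ((sub ρ U hU).comp (sub ρ U' hU').ker.subtype) * kV (QuotientGroup.kerLift (sub ρ U' hU')) := by
  let K := (sub ρ U' hU').ker
  let π : V →ₗ[k] U' := U'.projectionOnto U hc.symm
  let πU : V →ₗ[k] U := U.projectionOnto U' hc
  have hπ : ∀ g x, π (ρ g x) = sub ρ U' hU' g (π x) := by
    intro g x
    obtain ⟨a, ha, b, hb, rfl⟩ := Submodule.mem_sup.mp (hc.sup_eq_top ▸ Submodule.mem_top : x ∈ U ⊔ U')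
    rw [map_add, map_add, map_add, show π (ρ g a) = 0 from Submodule.projectionOnto_apply_of_mem_right hc.symm (hU g a ha),
      show π a = 0 from Submodule.projectionOnto_apply_of_mem_right hc.symm ha, zero_add, zero_add]
    rw [show π b = ⟨b, hb⟩ from Submodule.projectionOnto_apply_left hc.symm ⟨b, hb⟩,
      show π (ρ g b) = ⟨ρ g b, hU' g b hb⟩ from Submodule.projectionOnto_apply_left hc.symm ⟨_, hU' g b hb⟩]
    rfl
  let X := SemidirectProduct (Multiplicative V) Y (act ρ)
  haveI : Finite X := Finite.of_equiv _ SemidirectProduct.equivProd.symm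
  let f : X →* SemidirectProduct (Multiplicative U') (Y ⧸ K) (act (QuotientGroup.kerLift (sub ρ U' hU'))) :=
    SemidirectProduct.map (AddMonoidHom.toMultiplicative π.toAddMonoidHom) (QuotientGroup.mk' K) fun g =>
      MonoidHom.ext fun x => congrArg Multiplicative.ofAdd (hπ g x.toAdd)
  have hf : Function.Surjective f := fun z => by
    obtain ⟨z, q⟩ := z
    obtain ⟨y, rfl⟩ := QuotientGroup.mk'_surjective K q
    exact ⟨⟨Multiplicative.ofAdd (z.toAdd : V), y⟩, SemidirectProduct.ext
      (congrArg Multiplicative.ofAdd (Submodule.projectionOnto_apply_left hc.symm z.toAdd)) rfl⟩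
  let i : SemidirectProduct (Multiplicative U) K (act ((sub ρ U hU).comp K.subtype)) →* X :=
    SemidirectProduct.map (AddMonoidHom.toMultiplicative U.subtype.toAddMonoidHom) K.subtype fun g => rfl
  let i' : SemidirectProduct (Multiplicative U) K (act ((sub ρ U hU).comp K.subtype)) →* f.ker :=
    i.codRestrict f.ker fun x => SemidirectProduct.ext
      (congrArg Multiplicative.ofAdd (Submodule.projectionOnto_apply_of_mem_right hc.symm x.left.toAdd.2))
      ((QuotientGroup.eq_one_iff _).mpr x.right.2)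
  have hi : Function.Surjective i' := by
    rintro ⟨⟨a, y⟩, hx⟩
    have h1 := congrArg SemidirectProduct.left (MonoidHom.mem_ker.mp hx)
    have h2 := congrArg SemidirectProduct.right (MonoidHom.mem_ker.mp hx)
    have h1' : π a.toAdd = 0 := h1
    have ha : a.toAdd ∈ U := (Submodule.projectionOnto_apply_eq_zero_iff hc.symm).mp h1'
    exact ⟨⟨Multiplicative.ofAdd ⟨a.toAdd, ha⟩, ⟨y, (QuotientGroup.eq_one_iff _).mp h2⟩⟩,
      Subtype.ext (SemidirectProduct.ext rfl rfl)⟩
  haveI : Finite (SemidirectProduct (Multiplicative U) K (act ((sub ρ U hU).comp K.subtype))) :=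
    Finite.of_equiv _ SemidirectProduct.equivProd.symm
  refine (Cfsg.Agent.S4201.result f.ker).trans (Nat.mul_le_mul
    (Nat.card_le_card_of_surjective _ (ConjClasses.map_surjective hi)) ?_)
  let e := QuotientGroup.quotientKerEquivOfSurjective f hf
  haveI : Finite (SemidirectProduct (Multiplicative U') (Y ⧸ K) (act (QuotientGroup.kerLift (sub ρ U' hU')))) :=
    Finite.of_equiv _ SemidirectProduct.equivProd.symm
  refine Nat.card_le_card_of_injective (ConjClasses.map e.toMonoidHom) fun a b h => ?_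
  induction a using Quotient.inductionOn with | _ a => ?_
  induction b using Quotient.inductionOn with | _ b => ?_
  obtain ⟨c, hcc⟩ := isConj_iff.mp (ConjClasses.mk_eq_mk_iff_isConj.mp h)
  obtain ⟨d, rfl⟩ := e.surjective c
  refine ConjClasses.mk_eq_mk_iff_isConj.mpr (isConj_iff.mpr ⟨d, e.injective ?_⟩)
  simpa using hcc

/-- An abelian stabiliser bounds the class number by the order of the module. -/
theorem kV_le_card_of_stab (ρ : Y →* (V ≃ₗ[k] V)) (hρ : Function.Injective ρ) {p : ℕ} [Fact p.Prime]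
    (hV : ∀ x : V, p • x = 0) (hp : ¬ p ∣ Nat.card Y) (v : V)
    (hab : ∀ a b : Y, ρ a v = v → ρ b v = v → a * b = b * a) : kV ρ ≤ Nat.card V := by
  let X := SemidirectProduct (Multiplicative V) Y (act ρ)
  haveI : Finite X := Finite.of_equiv _ SemidirectProduct.equivProd.symm
  let inl : Multiplicative V →* X := SemidirectProduct.inl
  let inr : Y →* X := SemidirectProduct.inr
  haveI : inl.range.Normal := by
    rw [show inl.range = (SemidirectProduct.rightHom : X →* Y).ker from SemidirectProduct.range_inl_eq_ker_rightHom]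
    infer_instance
  have hcardV : Nat.card inl.range = Nat.card V :=
    (Nat.card_congr (MonoidHom.ofInjective SemidirectProduct.inl_injective).symm.toEquiv).trans
      (Nat.card_congr Multiplicative.toAdd)
  have hindex : inl.range.index = Nat.card Y := by
    rw [show inl.range = (SemidirectProduct.rightHom : X →* Y).ker from SemidirectProduct.range_inl_eq_ker_rightHom,
      Subgroup.index_ker, MonoidHom.range_eq_top.mpr SemidirectProduct.rightHom_surjective, Subgroup.card_top]
  have hconj : ∀ (g : Y) (x : Multiplicative V), inr g * inl x = inl (act ρ g x) * inr g := fun g x => by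
    refine SemidirectProduct.ext ?_ ?_
    · show 1 * act ρ g x = act ρ g x * act ρ 1 1
      rw [map_one, one_mul, mul_one]
    · show g * 1 = 1 * g
      rw [mul_one, one_mul]
  have hcompl : Subgroup.IsComplement' inl.range inr.range := by
    refine Subgroup.isComplement'_of_disjoint_and_mul_eq_univ ?_ ?_
    · rw [disjoint_iff, Subgroup.eq_bot_iff_forall]
      rintro x ⟨⟨a, rfl⟩, ⟨b, hb⟩⟩
      have : a = 1 := (congrArg SemidirectProduct.left hb).symm
      rw [this, map_one]
    · refine Set.eq_univ_of_forall fun x => ⟨inl x.left, ⟨x.left, rfl⟩, inr x.right, ⟨x.right, rfl⟩, ?_⟩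
      exact SemidirectProduct.inl_left_mul_inr_right x
  rw [← hcardV]
  refine Cfsg.Agent.S4958.result p inl.range ?_ (by rwa [hindex]) ?_ inr.range hcompl (inl (Multiplicative.ofAdd v))
    ⟨_, rfl⟩ ?_
  · rintro _ ⟨a, rfl⟩
    rw [← map_pow, show a ^ p = 1 from hV a.toAdd, map_one]
  · refine le_antisymm (fun x hx => ?_) ?_
    · rw [show inl.range = (SemidirectProduct.rightHom : X →* Y).ker from SemidirectProduct.range_inl_eq_ker_rightHom]
      refine hρ (LinearEquiv.ext fun w => ?_)
      rw [map_one]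
      have h1 := Subgroup.mem_centralizer_iff.mp hx (inl (Multiplicative.ofAdd w)) ⟨_, rfl⟩
      have h2 : Multiplicative.ofAdd w * act ρ 1 x.left = x.left * act ρ x.right (Multiplicative.ofAdd w) :=
        congrArg SemidirectProduct.left h1
      rw [map_one, MulAut.one_apply, mul_comm (Multiplicative.ofAdd w), mul_left_cancel_iff] at h2
      exact (congrArg Multiplicative.toAdd h2).symm
    · rintro _ ⟨a, rfl⟩
      rw [Subgroup.mem_centralizer_iff]
      rintro _ ⟨b, rfl⟩
      rw [← map_mul, ← map_mul, mul_comm]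
  · rintro x ⟨⟨a, rfl⟩, ha⟩ y ⟨⟨b, rfl⟩, hb⟩
    have key : ∀ c : Y, inr c ∈ Subgroup.centralizer ({inl (Multiplicative.ofAdd v)} : Set X) → ρ c v = v := by
      intro c hc
      have h1 := Subgroup.mem_centralizer_iff.mp hc _ rfl
      rw [hconj] at h1
      exact congrArg Multiplicative.toAdd (SemidirectProduct.inl_injective (mul_right_cancel h1)).symm
    rw [← map_mul, ← map_mul, hab a b (key a ha) (key b hb)]

end bounds

end CfsgLib.KBlock
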